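import Groth.Agent.H16Derived.BLoc.Cells
import Mathlib.Algebra.Homology.DerivedCategory.KInjective
import Mathlib.CategoryTheory.Adjunction.PartialAdjoint

/-!
# Bousfield localization of the derived category at a small family of complexes
-/

set_option autoImplicit false
set_option linter.style.haveILetI false

universe w v u

open CategoryTheory CategoryTheory.Limits CategoryTheory.MorphismProperty CochainComplex
open CochainComplex.HomComplex
open scoped ZeroObject

namespace Groth.Agent.H16Derived.BLoc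

variable {A : Type u} [Category.{v} A] [Abelian A] [HasDerivedCategory.{w} A]

/-- `X` receives no map from the shifts of `S`. -/
def Orth (S : CochainComplex A ℤ) (X : DerivedCategory A) : Prop :=
  ∀ n : ℤ, Subsingleton (DerivedCategory.Q.obj S ⟶ X⟦n⟧)

lemma Orth.of_iso {S : CochainComplex A ℤ} {X Y : DerivedCategory A} (e : X ≅ Y) (h : Orth S X) :
    Orth S Y := fun n => ⟨fun a b => by
  haveI := h n
  rw [← cancel_mono ((CategoryTheory.shiftFunctor (DerivedCategory A) n).map e.inv)]
  exact Subsingleton.elim _ _⟩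

lemma Orth.shift {S : CochainComplex A ℤ} {X : DerivedCategory A} (h : Orth S X) (m : ℤ) :
    Orth (S⟦m⟧) X := fun n => ⟨fun a b => by
  let e : (DerivedCategory.Q.obj (S⟦m⟧))⟦-m⟧ ≅ DerivedCategory.Q.obj S :=
    (CategoryTheory.shiftFunctor (DerivedCategory A) (-m)).mapIso ((DerivedCategory.Q.commShiftIso m).app S) ≪≫
      (shiftFunctorCompIsoId (DerivedCategory A) m (-m) (by omega)).app _
  let e' : (X⟦n⟧)⟦-m⟧ ≅ X⟦n + -m⟧ := ((shiftFunctorAdd (DerivedCategory A) n (-m)).app X).symm
  apply (CategoryTheory.shiftFunctor (DerivedCategory A) (-m)).map_injective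
  rw [← cancel_epi e.inv, ← cancel_mono e'.hom]
  haveI := h (n + -m)
  exact Subsingleton.elim _ _⟩

section KInj

variable {S N : CochainComplex A ℤ} [N.IsKInjective]

lemma exists_Q_map (f : DerivedCategory.Q.obj S ⟶ DerivedCategory.Q.obj N) :
    ∃ g : S ⟶ N, DerivedCategory.Q.map g = f := by
  obtain ⟨g, hg⟩ := (IsKInjective.Qh_map_bijective _ N).2
    ((DerivedCategory.quotientCompQhIso A).hom.app S ≫ f ≫ (DerivedCategory.quotientCompQhIso A).inv.app N)
  obtain ⟨g', rfl⟩ := (HomotopyCategory.quotient A (ComplexShape.up ℤ)).map_surjective g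
  refine ⟨g', ?_⟩
  rw [← cancel_epi ((DerivedCategory.quotientCompQhIso A).hom.app S),
    ← DerivedCategory.quotientCompQhIso_hom_naturality, hg]
  simp

lemma nonempty_homotopy_of_Q_map_eq_zero {g : S ⟶ N} (h : DerivedCategory.Q.map g = 0) :
    Nonempty (Homotopy g 0) := by
  rw [← HomotopyCategory.quotient_map_eq_zero_iff]
  refine (IsKInjective.Qh_map_bijective _ N).1 ?_
  rw [Functor.map_zero, ← cancel_mono ((DerivedCategory.quotientCompQhIso A).hom.app N),
    DerivedCategory.quotientCompQhIso_hom_naturality, h]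
  simp

lemma Q_map_eq_zero_of_homotopy {M L : CochainComplex A ℤ} {g : M ⟶ L} (h : Homotopy g 0) :
    DerivedCategory.Q.map g = 0 := by
  rw [← cancel_epi ((DerivedCategory.quotientCompQhIso A).hom.app M),
    ← DerivedCategory.quotientCompQhIso_hom_naturality,
    HomotopyCategory.eq_of_homotopy g 0 h, Functor.map_zero, Functor.map_zero]
  simp

lemma nullCo_of_orth (h : Orth S (DerivedCategory.Q.obj N)) : NullCo S N := by
  intro m n hm z
  haveI := h n
  let g : S ⟶ N⟦n⟧ := Cocycle.equivHomShift.symm z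
  have hg : DerivedCategory.Q.map g = 0 := by
    rw [← cancel_mono ((DerivedCategory.Q.commShiftIso n).hom.app N)]
    exact (h n).elim _ _
  obtain ⟨hh⟩ := nonempty_homotopy_of_Q_map_eq_zero hg
  exact (mem_coboundaries_iff z m hm).1 ((CohomologyClass.toHom_mk_eq_zero_iff z).1
    ((CohomologyClass.toHom_mk z).trans
      ((HomotopyCategory.eq_of_homotopy _ _ hh).trans (Functor.map_zero _ _ _))))

end KInj

variable [IsGrothendieckAbelian.{v} A]

lemma acyclic_genSrc : ∀ k : KInjRes.GenIdx A, (KInjRes.genSrc k).Acyclic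
  | .inl _ => Lifting.acyclic_disk _ _
  | .inr s => s.acyclic

lemma acyclic_genTgt : ∀ k : KInjRes.GenIdx A, (KInjRes.genTgt k).Acyclic
  | .inl _ => Lifting.acyclic_disk _ _
  | .inr s => Lifting.acyclic_of_homotopy_id_zero (TermwiseSplit.homotopyIdZero s.complex)

/-- A fibrant complex is K-injective. -/
lemma isKInjective_of_isFibrant {N : CochainComplex A ℤ} (hN : KInjRes.IsFibrant N) : N.IsKInjective := by
  refine ⟨fun {K} φ hK => ?_⟩
  obtain ⟨R, j, hj⟩ := KInjRes.exists_functorial (KInjRes.gen (A := A)) KInjRes.acyclic_cokernel_gen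
  haveI := (hj K).1
  have hfib : KInjRes.IsFibrant (R.obj K) := (hj K).2.2.2
  obtain ⟨c⟩ := hfib.nonempty_homotopy_id_zero
    (ShortComplex.ShortExact.acyclic_X₂ (KInjRes.shortExact_cokernel (j.app K)) hK (hj K).2.1)
  have hp : (ofHoms (KInjRes.gen (A := A))).rlp (0 : N ⟶ 0) := by
    rintro _ _ _ ⟨k⟩
    refine ⟨fun {t b} sq => ?_⟩
    obtain ⟨ψ, hψ⟩ := hN k t
    exact ⟨⟨{ l := ψ, fac_left := hψ, fac_right := (isZero_zero _).eq_of_tgt _ _ }⟩⟩
  haveI := (hj K).2.2.1 _ hp
  have sq : CommSq φ (j.app K) (0 : N ⟶ 0) 0 := ⟨(isZero_zero _).eq_of_tgt _ _⟩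
  exact ⟨(Homotopy.ofEq (show φ = j.app K ≫ 𝟙 _ ≫ sq.lift by
      rw [Category.id_comp]; exact sq.fac_left.symm)).trans
    (((c.compRight sq.lift).compLeft (j.app K)).trans (Homotopy.ofEq (by simp)))⟩

variable {κ : Type v} (σ : κ → CochainComplex A ℤ)

/-- The index of all the cells. -/
abbrev Idx (κ : Type v) : Type v := KInjRes.GenIdx A ⊕ (κ × ℤ)

/-- The sources of the cells. -/
noncomputable def src : Idx (A := A) κ → CochainComplex A ℤ
  | .inl k => KInjRes.genSrc k
  | .inr p => (σ p.1)⟦p.2⟧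

/-- The targets of the cells. -/
noncomputable def tgt : Idx (A := A) κ → CochainComplex A ℤ
  | .inl k => KInjRes.genTgt k
  | .inr p => CochainComplex.mappingCone (𝟙 ((σ p.1)⟦p.2⟧))

/-- The cells. -/
noncomputable def cell : ∀ k : Idx (A := A) κ, src σ k ⟶ tgt σ k
  | .inl k => KInjRes.gen k
  | .inr p => CochainComplex.mappingCone.inr (𝟙 ((σ p.1)⟦p.2⟧))

instance mono_cell : ∀ k : Idx (A := A) κ, Mono (cell σ k)
  | .inl k => KInjRes.mono_gen k
  | .inr _ => KInjRes.mono_inr _

lemma nullCo_src {N : CochainComplex A ℤ} [N.IsKInjective]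
    (h : ∀ k, Orth (σ k) (DerivedCategory.Q.obj N)) : ∀ k, NullCo (src σ k) N
  | .inl k => nullCo_of_acyclic (acyclic_genSrc k) N
  | .inr p => nullCo_of_orth ((h p.1).shift p.2)

lemma nullCo_tgt {N : CochainComplex A ℤ} [N.IsKInjective] : ∀ k, NullCo (tgt σ k) N
  | .inl k => nullCo_of_acyclic (acyclic_genTgt k) N
  | .inr _ => nullCo_of_acyclic (Lifting.acyclic_of_homotopy_id_zero (TermwiseSplit.homotopyIdZero _)) N

/-- The objects right orthogonal to all shifts of the family. -/
def orthogonal : ObjectProperty (DerivedCategory A) := fun X => ∀ k, Orth (σ k) X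

/-- Bousfield localization: the inclusion of the orthogonal has a left adjoint. -/
theorem isRightAdjoint_ι : (orthogonal σ).ι.IsRightAdjoint := by
  refine Functor.isRightAdjoint_of_leftAdjointObjIsDefined_eq_top (top_le_iff.1 fun X _ => ?_)
  haveI := Localization.essSurj (DerivedCategory.Q (C := A)) (HomologicalComplex.quasiIso A (ComplexShape.up ℤ))
  let M := (DerivedCategory.Q (C := A)).objPreimage X
  let eM : DerivedCategory.Q.obj M ≅ X := (DerivedCategory.Q (C := A)).objObjPreimageIso X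
  obtain ⟨L, j, hj, hL⟩ := exists_cell (cell σ) M
  have hfib : KInjRes.IsFibrant L := fun k φ => hL (.inl k) φ
  haveI := isKInjective_of_isFibrant hfib
  have hLP : orthogonal σ (DerivedCategory.Q.obj L) := fun i n => ⟨fun a b => by
    suffices ∀ f : DerivedCategory.Q.obj (σ i) ⟶ (DerivedCategory.Q.obj L)⟦n⟧, f = 0 by rw [this a, this b]
    intro f
    apply (CategoryTheory.shiftFunctor (DerivedCategory A) (-n)).map_injective
    rw [Functor.map_zero, ← cancel_epi ((DerivedCategory.Q.commShiftIso (-n)).hom.app (σ i)),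
      ← cancel_mono ((shiftFunctorCompIsoId (DerivedCategory A) n (-n) (by omega)).hom.app _)]
    obtain ⟨g, hg⟩ := exists_Q_map ((DerivedCategory.Q.commShiftIso (-n)).hom.app (σ i) ≫ f⟦-n⟧' ≫
      (shiftFunctorCompIsoId (DerivedCategory A) n (-n) (by omega)).hom.app _)
    obtain ⟨hh⟩ := KInjRes.nonempty_homotopy_zero_of_extends g (hL (.inr (i, -n)) g)
    rw [Q_map_eq_zero_of_homotopy hh] at hg
    simpa using hg.symm⟩
  let u : X ⟶ DerivedCategory.Q.obj L := eM.inv ≫ DerivedCategory.Q.map j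
  have key : ∀ (Y : DerivedCategory A), orthogonal σ Y →
      Function.Bijective (fun ψ : DerivedCategory.Q.obj L ⟶ Y => u ≫ ψ) := by
    intro Y hY
    let M' := (DerivedCategory.Q (C := A)).objPreimage Y
    obtain ⟨R, r, hr⟩ := KInjRes.exists_functorial (KInjRes.gen (A := A)) KInjRes.acyclic_cokernel_gen
    let N := R.obj M'
    have hfN : KInjRes.IsFibrant N := (hr M').2.2.2
    haveI := isKInjective_of_isFibrant hfN
    haveI := hfN.injective
    haveI := (hr M').1
    haveI : IsIso (DerivedCategory.Q.map (r.app M')) :=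
      (DerivedCategory.isIso_Q_map_iff_quasiIso _ _).2 (KInjRes.quasiIso_of_mono _ (hr M').2.1)
    let eY : DerivedCategory.Q.obj N ≅ Y :=
      (asIso (DerivedCategory.Q.map (r.app M'))).symm ≪≫ (DerivedCategory.Q (C := A)).objObjPreimageIso Y
    have hN : ∀ k, Orth (σ k) (DerivedCategory.Q.obj N) := fun k => (hY k).of_iso eY.symm
    refine ⟨fun ψ₁ ψ₂ hψ => ?_, fun g => ?_⟩
    · rw [← cancel_mono eY.inv, ← sub_eq_zero, ← Preadditive.sub_comp]
      obtain ⟨g, hg⟩ := exists_Q_map ((ψ₁ - ψ₂) ≫ eY.inv)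
      have hjg : DerivedCategory.Q.map (j ≫ g) = 0 := by
        have hu : DerivedCategory.Q.map j = eM.hom ≫ u := by simp [u]
        have h' : u ≫ ψ₁ = u ≫ ψ₂ := hψ
        rw [Functor.map_comp, hg, hu, Category.assoc, Preadditive.sub_comp, Preadditive.comp_sub,
          reassoc_of% h', sub_self, comp_zero]
      obtain ⟨hh⟩ := nonempty_homotopy_of_Q_map_eq_zero hjg
      obtain ⟨γ, hγ⟩ := Cochain.equivHomotopy _ _ hh
      rw [Cochain.ofHom_zero, add_zero] at hγ
      let t : M ⟶ path N := mappingCocone.lift (𝟙 N) (j ≫ g) (-γ) (by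
        rw [Category.comp_id, δ_neg, ← hγ, neg_add_cancel])
      have hp : (ofHoms (cell σ)).rlp (mappingCocone.fst (𝟙 N) : path N ⟶ N) := by
        rintro _ _ _ ⟨k⟩
        exact hasLiftingProperty_path _ (nullCo_src σ hN k) (nullCo_tgt σ k)
      haveI := hj _ hp
      have sq : CommSq t j (mappingCocone.fst (𝟙 N) : path N ⟶ N) g := ⟨mappingCocone.lift_fst _ _ _ _⟩
      have h0 : IsZero (DerivedCategory.Q.obj (path N)) := by
        rw [IsZero.iff_id_eq_zero, ← DerivedCategory.Q.map_id]
        exact Q_map_eq_zero_of_homotopy ((Homotopy.ofEq ((CategoryTheory.shiftFunctor (CochainComplex A ℤ) (-1 : ℤ)).map_id _).symm).trans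
          (((TermwiseSplit.homotopyIdZero N).shift (-1)).trans (Homotopy.ofEq (Functor.map_zero _ _ _))))
      rw [← hg, ← sq.fac_right, Functor.map_comp, h0.eq_of_tgt (DerivedCategory.Q.map sq.lift) 0, zero_comp]
    · obtain ⟨φ, hφ⟩ := exists_Q_map (eM.hom ≫ g ≫ eY.inv)
      have hp : (ofHoms (cell σ)).rlp (0 : N ⟶ 0) := by
        rintro _ _ _ ⟨k⟩
        refine ⟨fun {t b} sq => ?_⟩
        obtain ⟨ψ, hψ⟩ := exists_ext (cell σ k) (nullCo_src σ hN k) t
        exact ⟨⟨{ l := ψ, fac_left := hψ, fac_right := (isZero_zero _).eq_of_tgt _ _ }⟩⟩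
      haveI := hj _ hp
      have sq : CommSq φ j (0 : N ⟶ 0) 0 := ⟨(isZero_zero _).eq_of_tgt _ _⟩
      refine ⟨DerivedCategory.Q.map sq.lift ≫ eY.hom, ?_⟩
      show (eM.inv ≫ DerivedCategory.Q.map j) ≫ DerivedCategory.Q.map sq.lift ≫ eY.hom = g
      rw [Category.assoc, ← Functor.map_comp_assoc, sq.fac_left, hφ]
      simp
  exact (Functor.CorepresentableBy.isCorepresentable
    { homEquiv := fun {Y} => (InducedCategory.homEquiv (X := (⟨DerivedCategory.Q.obj L, hLP⟩ : (orthogonal σ).FullSubcategory)) (Y := Y)).trans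
        (Equiv.ofBijective _ (key Y.obj Y.property))
      homEquiv_comp := fun g f => (Category.assoc _ _ _).symm })

end Groth.Agent.H16Derived.BLoc
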