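import Groth.Agent.H16Derived.KInjRes.Main
import Groth.Agent.H16Derived.Res.SpliceProj
import Mathlib.Algebra.Homology.HomotopyCategory.MappingCocone

/-!
# Cell complexes killing a small family of complexes
-/

set_option autoImplicit false
set_option linter.style.haveILetI false

universe v u

open CategoryTheory CategoryTheory.Limits CategoryTheory.MorphismProperty CochainComplex
open CochainComplex.HomComplex
open scoped ZeroObject

namespace Groth.Agent.H16Derived.BLoc

variable {A : Type u} [Category.{v} A] [Abelian A]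

section small

variable [IsGrothendieckAbelian.{v} A]

/-- Factorization of `M ⟶ 0` for a small family of monomorphisms of complexes. -/
theorem exists_cell {κ : Type v} {S T : κ → CochainComplex A ℤ} (f : ∀ k, S k ⟶ T k)
    [∀ k, Mono (f k)] (M : CochainComplex A ℤ) :
    ∃ (N : CochainComplex A ℤ) (j : M ⟶ N), (ofHoms f).rlp.llp j ∧
      ∀ (k : κ) (φ : S k ⟶ N), ∃ ψ : T k ⟶ N, f k ≫ ψ = φ := by
  let J : MorphismProperty (CochainComplex A ℤ) := ofHoms f
  have hJ : J ≤ monomorphisms _ := by
    rintro _ _ _ ⟨k⟩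
    exact inferInstanceAs (Mono (f k))
  have : HasSmallObjectArgument.{v} J := by
    obtain ⟨c, hc', hc⟩ := HasCardinalLT.exists_regular_cardinal_forall.{v}
      (fun k => Subobject (S k))
    have : Fact c.IsRegular := ⟨hc'⟩
    have : Nonempty c.ord.ToType := by simpa using hc'.ne_zero
    have := WellFoundedLT.toOrderBot c.ord.ToType
    exact ⟨c, inferInstance, inferInstance,
      { preservesColimit {A' B' X Y} i hi g hg := by
          let hg' : (monomorphisms (CochainComplex A ℤ)).TransfiniteCompositionOfShape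
              c.ord.ToType g :=
            { toTransfiniteCompositionOfShape := hg.toTransfiniteCompositionOfShape
              map_mem j hj := by
                have := (hg.attachCells j hj).pushouts_coproducts
                simp only [ofHoms_homFamily] at this
                refine (?_ : _ ≤ monomorphisms _) _ this
                simp only [pushouts_le_iff, coproducts_le_iff]
                exact fun _ _ x hx => hJ x hx }
          have (j j' : c.ord.ToType) (φ : j ⟶ j') : Mono (hg'.F.map φ) := hg'.mem_map φ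
          apply IsGrothendieckAbelian.preservesColimit_coyoneda_obj_of_mono (Y := hg'.F) (κ := c)
          obtain ⟨k⟩ := hi
          exact hc k }⟩
  let d := (functorialFactorizationData J.rlp.llp J.rlp).factorizationData (0 : M ⟶ 0)
  refine ⟨d.Z, d.i, d.hi, fun k φ => ?_⟩
  have := d.hp (f k) ⟨k⟩
  have sq : CommSq φ (f k) d.p 0 := ⟨(isZero_zero _).eq_of_tgt _ _⟩
  exact ⟨sq.lift, sq.fac_left⟩

end small

/-- All cocycles from `S` to `N` are coboundaries. -/
def NullCo (S N : CochainComplex A ℤ) : Prop :=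
  ∀ (m n : ℤ) (_ : m + 1 = n) (z : Cocycle S N n), ∃ α : Cochain S N m, δ m n α = z.1

lemma nullCo_of_acyclic {S : CochainComplex A ℤ} (hS : S.Acyclic) (N : CochainComplex A ℤ)
    [N.IsKInjective] : NullCo S N :=
  fun m _ hm z => IsKInjective.eq_δ_of_cocycle z hS m hm

variable {S T N : CochainComplex A ℤ} (f : S ⟶ T) [Mono f] [∀ i, Injective (N.X i)]

/-- Extension of cochains. -/
lemma exists_extend {m : ℤ} (α : Cochain S N m) :
    ∃ β : Cochain T N m, (Cochain.ofHom f).comp β (zero_add m) = α := by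
  haveI : ∀ i, Mono (f.f i) := fun i =>
    inferInstanceAs (Mono ((HomologicalComplex.eval A (ComplexShape.up ℤ) i).map f))
  refine ⟨Cochain.mk fun p q hpq => Injective.factorThru (α.v p q hpq) (f.f p), ?_⟩
  ext p q hpq
  simp [Injective.comp_factorThru]

/-- Maps null on the source extend. -/
lemma exists_ext (h : NullCo S N) (φ : S ⟶ N) : ∃ ψ : T ⟶ N, f ≫ ψ = φ := by
  obtain ⟨α, hα⟩ := h (-1) 0 (by simp) (Cocycle.ofHom φ)
  obtain ⟨β, hβ⟩ := exists_extend f α
  let z : Cocycle T N 0 := Cocycle.mk (δ (-1) 0 β) 1 (by simp) (δ_δ _ _ _ _)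
  refine ⟨z.homOf, ?_⟩
  have e : Cochain.ofHom (f ≫ z.homOf) = Cochain.ofHom φ := by
    rw [Cochain.ofHom_comp, Cocycle.cochain_ofHom_homOf_eq_coe]
    show (Cochain.ofHom f).comp (δ (-1) 0 β) (zero_add 0) = _
    rw [← δ_ofHom_comp, hβ, hα]
    rfl
  exact HomologicalComplex.hom_ext _ _ fun p => by
    simpa using Cochain.congr_v e p p (add_zero p)

/-- Null homotopies on the source extend. -/
lemma exists_homotopy_ext (hS : NullCo S N) (hT : NullCo T N) (a : T ⟶ N) (h : Cochain S N (-1))
    (hh : δ (-1) 0 h + Cochain.ofHom (f ≫ a) = 0) :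
    ∃ h' : Cochain T N (-1), δ (-1) 0 h' + Cochain.ofHom a = 0 ∧
      (Cochain.ofHom f).comp h' (zero_add (-1)) = h := by
  obtain ⟨h₀, hh₀⟩ := hT (-1) 0 (by simp) (-Cocycle.ofHom a)
  have hh₀' : δ (-1) 0 h₀ = -Cochain.ofHom a := hh₀
  let c : Cocycle S N (-1) := Cocycle.mk (h - (Cochain.ofHom f).comp h₀ (zero_add (-1))) 0 (by simp) (by
    rw [δ_sub, δ_ofHom_comp, hh₀', eq_neg_of_add_eq_zero_left hh, Cochain.ofHom_comp, Cochain.comp_neg,
      sub_self])
  obtain ⟨e, he⟩ := hS (-2) (-1) (by simp) c
  obtain ⟨e', he'⟩ := exists_extend f e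
  refine ⟨h₀ + δ (-2) (-1) e', ?_, ?_⟩
  · rw [δ_add, δ_δ, add_zero, hh₀', neg_add_cancel]
  · rw [Cochain.comp_add, ← δ_ofHom_comp, he', he]
    show (Cochain.ofHom f).comp h₀ _ + (h - (Cochain.ofHom f).comp h₀ _) = h
    abel

/-- The contractible path object. -/
noncomputable abbrev path (N : CochainComplex A ℤ) : CochainComplex A ℤ := mappingCocone (𝟙 N)

omit [Mono f] [∀ i, Injective (N.X i)] in
lemma δ_snd_add {K L : CochainComplex A ℤ} (φ : K ⟶ L) :
    δ (-1) 0 (mappingCocone.snd φ) + Cochain.ofHom (mappingCocone.fst φ ≫ φ) = 0 := by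
  dsimp [mappingCocone.snd, mappingCocone.fst, mappingCocone]
  ext p
  simp [Cochain.δ_leftShift _ (-1) _ 0 _ 1 (by omega), mappingCone.δ_snd]
  erw [add_neg_cancel]
  rfl

lemma hasLiftingProperty_path (hS : NullCo S N) (hT : NullCo T N) :
    HasLiftingProperty f (mappingCocone.fst (𝟙 N) : path N ⟶ N) where
  sq_hasLift {t b} sq := by
    let h : Cochain S N (-1) := (Cochain.ofHom t).comp (mappingCocone.snd (𝟙 N)) (zero_add (-1))
    have hh : δ (-1) 0 h + Cochain.ofHom (f ≫ b) = 0 := by
      rw [δ_ofHom_comp, ← sq.w, Cochain.ofHom_comp, ← Cochain.comp_add]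
      have := δ_snd_add (𝟙 N)
      rw [Category.comp_id] at this
      rw [this, Cochain.comp_zero]
    obtain ⟨h', hh', hf⟩ := exists_homotopy_ext f hS hT b h hh
    refine ⟨⟨{ l := mappingCocone.lift (𝟙 N) b h' (by rw [Category.comp_id]; exact hh'), fac_left := ?_,
               fac_right := mappingCocone.lift_fst _ _ _ _ }⟩⟩
    refine HomologicalComplex.hom_ext _ _ fun p => Res.mappingCocone_hom_ext _ ?_ ?_
    · rw [HomologicalComplex.comp_f, Category.assoc, mappingCocone.lift_f_fst_f, ← HomologicalComplex.comp_f,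
        ← HomologicalComplex.comp_f, sq.w]
    · rw [HomologicalComplex.comp_f, Category.assoc, mappingCocone.lift_f_snd_v]
      simpa [h] using Cochain.congr_v hf p (p + -1) rfl

end Groth.Agent.H16Derived.BLoc
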